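import Cfsg.Agent.H765.HT.LowKit
import Cfsg.Agent.H934.IdxPSU

/-!
# S4933, R6: `Low p (PSU_4(q)) q` (helper765)
-/

set_option autoImplicit false

open Cfsg Matrix

namespace Cfsg.Agent.H765.HT

open Cfsg.Agent.H40.HT Cfsg.Agent.LieClassical.HermBasic

section

variable {F : Type} [Field F] [Fintype F] {q : ℕ} (hF : Fintype.card F = q ^ 2)

/-- conjugate transpose -/
def st {m n : ℕ} (M : Matrix (Fin m) (Fin n) F) : Matrix (Fin n) (Fin m) F := (M.map (conj hF))ᵀ

theorem st_apply {m n : ℕ} (M : Matrix (Fin m) (Fin n) F) (i : Fin n) (j : Fin m) : st hF M i j = (M j i) ^ q := rfl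

theorem st_add {m n : ℕ} (M N : Matrix (Fin m) (Fin n) F) : st hF (M + N) = st hF M + st hF N := by
  ext i j
  rw [Matrix.add_apply, st_apply, st_apply, st_apply, Matrix.add_apply, add_pow_q hF]

theorem st_neg {m n : ℕ} (M : Matrix (Fin m) (Fin n) F) : st hF (-M) = - st hF M := by
  ext i j
  rw [Matrix.neg_apply, st_apply, st_apply, Matrix.neg_apply, neg_pow_q hF]

theorem st_zero {m n : ℕ} : st hF (0 : Matrix (Fin m) (Fin n) F) = 0 := by
  ext i j
  rw [st_apply, Matrix.zero_apply, Matrix.zero_apply, zero_pow_q hF]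

theorem st_one {m : ℕ} : st hF (1 : Matrix (Fin m) (Fin m) F) = 1 := by
  ext i j
  rw [st_apply]
  by_cases h : i = j
  · subst h; simp
  · rw [Matrix.one_apply_ne (Ne.symm h), Matrix.one_apply_ne h, zero_pow_q hF]

theorem st_mul {l m n : ℕ} (M : Matrix (Fin l) (Fin m) F) (N : Matrix (Fin m) (Fin n) F) :
    st hF (M * N) = st hF N * st hF M := by
  unfold st
  rw [Matrix.map_mul, Matrix.transpose_mul]

theorem st_st {m n : ℕ} (M : Matrix (Fin m) (Fin n) F) : st hF (st hF M) = M := by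
  ext i j
  rw [st_apply, st_apply, pow_q_pow_q hF]

theorem mem_SU_of {n : ℕ} {g : Matrix.SpecialLinearGroup (Fin n) F}
    (h : st hF (g : Matrix (Fin n) (Fin n) F) * (g : Matrix (Fin n) (Fin n) F) = 1) : g ∈ SU n F q := by
  rw [mem_SU_iff]
  intro u v
  have h1 : ∀ a b : Fin n → F, hermForm n F q a b = a ⬝ᵥ (fun i => conj hF (b i)) := fun a b => rfl
  have h2 : (fun i => conj hF (((g : Matrix (Fin n) (Fin n) F) *ᵥ v) i)) =
      ((g : Matrix (Fin n) (Fin n) F).map (conj hF)) *ᵥ (fun i => conj hF (v i)) := by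
    ext i
    simp only [Matrix.mulVec, dotProduct, map_sum, map_mul, Matrix.map_apply]
  rw [h1, h1, h2, Matrix.dotProduct_mulVec, Matrix.vecMul_mulVec, ← Matrix.dotProduct_mulVec]
  have h3 : (g : Matrix (Fin n) (Fin n) F)ᵀ * ((g : Matrix (Fin n) (Fin n) F).map (conj hF)) = 1 := by
    have h4 := congrArg Matrix.transpose h
    rw [Matrix.transpose_mul, Matrix.transpose_one] at h4
    exact h4
  rw [h3, Matrix.one_mulVec]

/-- the element `1 + P H P*` -/
def el {n : ℕ} (P : Matrix (Fin n) (Fin 2) F) (hP : st hF P * P = 0) (H : Matrix (Fin 2) (Fin 2) F)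
    (hH : st hF H = -H) : SU n F q :=
  ⟨⟨1 + P * H * st hF P, by
    rw [Matrix.mul_assoc, Matrix.det_one_add_mul_comm, Matrix.mul_assoc, hP, Matrix.mul_zero, add_zero, Matrix.det_one]⟩,
    mem_SU_of hF (by
      show st hF (1 + P * H * st hF P) * (1 + P * H * st hF P) = 1
      rw [st_add, st_one, st_mul, st_mul, st_st, hH]
      have h1 : (P * (-H * st hF P)) * (P * H * st hF P) = P * -H * (st hF P * P) * (H * st hF P) := by
        simp only [Matrix.mul_assoc]
      rw [mul_add, add_mul, add_mul, h1, hP]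
      simp [Matrix.mul_assoc])⟩

theorem coe_el {n : ℕ} (P : Matrix (Fin n) (Fin 2) F) (hP : st hF P * P = 0) (H : Matrix (Fin 2) (Fin 2) F)
    (hH : st hF H = -H) : ((el hF P hP H hH : SU n F q) : Matrix.SpecialLinearGroup (Fin n) F).1 =
      1 + P * H * st hF P := rfl

theorem st_el {n : ℕ} (P : Matrix (Fin n) (Fin 2) F) (hP : st hF P * P = 0) (H : Matrix (Fin 2) (Fin 2) F)
    (hH : st hF H = -H) : st hF (1 + P * H * st hF P) * (1 + P * H * st hF P) = 1 := by
  rw [st_add, st_one, st_mul, st_mul, st_st, hH]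
  have h1 : (P * (-H * st hF P)) * (P * H * st hF P) = P * -H * (st hF P * P) * (H * st hF P) := by
    simp only [Matrix.mul_assoc]
  rw [mul_add, add_mul, add_mul, h1, hP]
  simp [Matrix.mul_assoc]

theorem el_mul {n : ℕ} (P : Matrix (Fin n) (Fin 2) F) (hP : st hF P * P = 0) (H H' : Matrix (Fin 2) (Fin 2) F)
    (hH : st hF H = -H) (hH' : st hF H' = -H') (h : st hF (H + H') = -(H + H')) :
    el hF P hP (H + H') h = el hF P hP H hH * el hF P hP H' hH' := by
  apply Subtype.ext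
  apply Subtype.ext
  show 1 + P * (H + H') * st hF P = (1 + P * H * st hF P) * (1 + P * H' * st hF P)
  have h1 : (P * H * st hF P) * (P * H' * st hF P) = P * H * (st hF P * P) * (H' * st hF P) := by
    simp only [Matrix.mul_assoc]
  rw [mul_add, add_mul, add_mul, h1, hP]
  simp [Matrix.mul_add, Matrix.add_mul, add_assoc, add_comm]

/-- the key relation: if `x P = P U` for an isometry `x` then `x (1 + P H P*) = (1 + P (U H U*) P*) x` -/
theorem conj_el {n : ℕ} (P : Matrix (Fin n) (Fin 2) F) (x : Matrix (Fin n) (Fin n) F) (hx : st hF x * x = 1)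
    (U : Matrix (Fin 2) (Fin 2) F) (hU : x * P = P * U) (H : Matrix (Fin 2) (Fin 2) F) :
    x * (1 + P * H * st hF P) = (1 + P * (U * H * st hF U) * st hF P) * x := by
  have h1 : st hF U * (st hF P * x) = st hF P := by
    calc st hF U * (st hF P * x) = st hF (P * U) * x := by rw [st_mul, Matrix.mul_assoc]
      _ = st hF (x * P) * x := by rw [hU]
      _ = st hF P * (st hF x * x) := by rw [st_mul, Matrix.mul_assoc]
      _ = st hF P := by rw [hx, Matrix.mul_one]
  calc x * (1 + P * H * st hF P) = x + (x * P) * H * st hF P := by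
        rw [Matrix.mul_add, Matrix.mul_one]; simp only [Matrix.mul_assoc]
    _ = x + P * U * H * (st hF U * (st hF P * x)) := by rw [hU, h1]
    _ = _ := by rw [Matrix.add_mul, Matrix.one_mul]; simp only [Matrix.mul_assoc]

end

section four

variable {F : Type} [Field F] [Fintype F] {q : ℕ} (hF : Fintype.card F = q ^ 2)

/-- the totally isotropic plane `⟨u, w⟩` -/
def P1 (ε : F) : Matrix (Fin 4) (Fin 2) F := !![1, 0; ε, 0; 0, 1; 0, ε]

/-- the totally isotropic plane `⟨u, w'⟩` -/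
def P2 (ε κ η : F) : Matrix (Fin 4) (Fin 2) F := !![1, 0; ε, 0; 0, κ; 0, κ * ε * η]

theorem P1_zero {ε : F} (h : ε * ε ^ q = -1) : st hF (P1 ε) * P1 ε = 0 := by
  have hz : (0 : F) ^ q = 0 := zero_pow_q hF
  have h' : ε ^ q * ε = -1 := by rw [mul_comm]; exact h
  ext i j
  fin_cases i <;> fin_cases j <;>
    simp [Matrix.mul_apply, Fin.sum_univ_four, st_apply, P1, hz, h']

theorem P2_zero {ε κ η : F} (h : ε * ε ^ q = -1) (h2 : η * η ^ q = 1) : st hF (P2 ε κ η) * P2 ε κ η = 0 := by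
  have hz : (0 : F) ^ q = 0 := zero_pow_q hF
  have h' : ε ^ q * ε = -1 := by rw [mul_comm]; exact h
  have h3 : κ ^ q * κ + (κ * ε * η) ^ q * (κ * ε * η) = 0 := by
    rw [mul_pow, mul_pow]
    linear_combination (κ ^ q * κ) * (η * η ^ q) * h' + (-(κ ^ q * κ)) * h2
  ext i j
  fin_cases i <;> fin_cases j <;>
    simp [Matrix.mul_apply, Fin.sum_univ_four, st_apply, P2, hz, h', h3]

theorem P21 {ε κ η : F} (h : ε * ε ^ q = -1) (hκ : κ * (1 - η) = 1) :
    st hF (P2 ε κ η) * P1 ε = !![0, 0; 0, 1] := by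
  have hz : (0 : F) ^ q = 0 := zero_pow_q hF
  have h' : ε ^ q * ε = -1 := by rw [mul_comm]; exact h
  have hκ' : κ ^ q * (1 - η ^ q) = 1 := by
    have h1 := congrArg (fun x => x ^ q) hκ
    simp only [mul_pow, one_pow, sub_pow_q hF] at h1
    exact h1
  have h3 : κ ^ q + (κ * ε * η) ^ q * ε = 1 := by
    rw [mul_pow, mul_pow]
    linear_combination (κ ^ q * η ^ q) * h' + hκ'
  ext i j
  fin_cases i <;> fin_cases j <;>
    simp [Matrix.mul_apply, Fin.sum_univ_four, st_apply, P1, P2, hz, h', h3]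

/-- `J_c` -/
def Jc (q : ℕ) (c : F) : Matrix (Fin 2) (Fin 2) F := !![0, c; -c ^ q, 0]

/-- `U_c` -/
def Uc (c : F) : Matrix (Fin 2) (Fin 2) F := !![1, c; 0, 1]

theorem st_Jc (c : F) : st hF (Jc q c) = -Jc q c := by
  have hz : (0 : F) ^ q = 0 := zero_pow_q hF
  ext i j
  fin_cases i <;> fin_cases j <;> simp [st_apply, Jc, hz, neg_pow_q hF, pow_q_pow_q hF]

include hF in
theorem Jc_add (c d : F) : Jc q (c + d) = Jc q c + Jc q d := by
  ext i j
  fin_cases i <;> fin_cases j <;> simp [Jc, add_pow_q hF, add_comm]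

theorem rel {ε κ η : F} (h : ε * ε ^ q = -1) (hκ : κ * (1 - η) = 1) (c : F) :
    (1 + P2 ε κ η * Jc q c * st hF (P2 ε κ η)) * P1 ε = P1 ε * Uc c := by
  rw [Matrix.add_mul, Matrix.one_mul, Matrix.mul_assoc, P21 hF h hκ, Matrix.mul_assoc]
  ext i j
  fin_cases i <;> fin_cases j <;>
    simp [Matrix.mul_apply, Fin.sum_univ_two, P1, P2, Jc, Uc, mul_comm]

/-- the skew-hermitian matrices -/
def VV : AddSubgroup (Matrix (Fin 2) (Fin 2) F) where
  carrier := {H | st hF H = -H}
  zero_mem' := by show st hF 0 = -0; rw [st_zero, neg_zero]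
  add_mem' := fun {a b} ha hb => by
    show st hF (a + b) = -(a + b)
    rw [st_add, show st hF a = -a from ha, show st hF b = -b from hb, neg_add]
  neg_mem' := fun {a} ha => by
    show st hF (-a) = - -a
    rw [st_neg, show st hF a = -a from ha]

theorem mem_VV {H : Matrix (Fin 2) (Fin 2) F} : H ∈ VV hF ↔ st hF H = -H := Iff.rfl

/-- the fixed field -/
def KK : AddSubgroup F where
  carrier := {c | c ^ q = c}
  zero_mem' := zero_pow_q hF
  add_mem' := fun {a b} ha hb => by
    show (a + b) ^ q = a + b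
    rw [add_pow_q hF, show a ^ q = a from ha, show b ^ q = b from hb]
  neg_mem' := fun {a} ha => by
    show (-a) ^ q = -a
    rw [neg_pow_q hF, show a ^ q = a from ha]

theorem card_KK : Nat.card (KK hF) = q := card_fixed hF

theorem exists_norm_one_ne (hF : Fintype.card F = q ^ 2) : ∃ η : F, η * η ^ q = 1 ∧ η ≠ 1 := by
  classical
  by_contra hcon
  push Not at hcon
  have h1 := card_norm_eq_one hF
  have h2 : Nat.card {x : F // x * x ^ q = 1} ≤ 1 := by
    rw [Finite.card_le_one_iff_subsingleton]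
    exact ⟨fun a b => Subtype.ext ((hcon _ a.2).trans (hcon _ b.2).symm)⟩
  have h3 := two_le hF
  omega

theorem low_psu_four {p : ℕ} [CharP F p] (hF : Fintype.card F = q ^ 2) : Low p (PSU 4 F q) q := by
  have hp : ∀ c : F, p • c = 0 := fun c => by rw [nsmul_eq_mul, CharP.cast_eq_zero, zero_mul]
  obtain ⟨ε, hε⟩ : ∃ ε : F, ε * ε ^ q = -1 := exists_norm_eq hF (by rw [neg_pow_q hF, one_pow])
  obtain ⟨η, hη, hη1⟩ := exists_norm_one_ne hF
  obtain ⟨κ, hκ⟩ : ∃ κ : F, κ * (1 - η) = 1 := ⟨(1 - η)⁻¹, inv_mul_cancel₀ (sub_ne_zero.2 (Ne.symm hη1))⟩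
  obtain ⟨μ, hμ0, hμ⟩ := exists_trace_zero_ne hF
  have hμ' : μ ^ q = -μ := by rw [eq_neg_iff_add_eq_zero, add_comm]; exact hμ
  have hz : (0 : F) ^ q = 0 := zero_pow_q hF
  have hP1 := P1_zero hF hε
  have hP2 := P2_zero hF (κ := κ) hε hη
  let V0 : AddSubgroup (VV hF) :=
    { carrier := {H | (H : Matrix (Fin 2) (Fin 2) F) 0 1 = 0 ∧ (H : Matrix (Fin 2) (Fin 2) F) 1 1 = 0}
      zero_mem' := ⟨rfl, rfl⟩
      add_mem' := fun {a b} ha hb => by
        refine ⟨?_, ?_⟩
        · show (a : Matrix (Fin 2) (Fin 2) F) 0 1 + (b : Matrix (Fin 2) (Fin 2) F) 0 1 = 0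
          rw [ha.1, hb.1, add_zero]
        · show (a : Matrix (Fin 2) (Fin 2) F) 1 1 + (b : Matrix (Fin 2) (Fin 2) F) 1 1 = 0
          rw [ha.2, hb.2, add_zero]
      neg_mem' := fun {a} ha => by
        refine ⟨?_, ?_⟩
        · show -(a : Matrix (Fin 2) (Fin 2) F) 0 1 = 0
          rw [ha.1, neg_zero]
        · show -(a : Matrix (Fin 2) (Fin 2) F) 1 1 = 0
          rw [ha.2, neg_zero] }
  let v0 : VV hF := ⟨!![0, μ; μ, 0], by
    rw [mem_VV]
    ext i j
    fin_cases i <;> fin_cases j <;> simp [st_apply, hz, hμ']⟩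
  have hφ : ∀ (c : F) (H : VV hF), Uc c * (H : Matrix (Fin 2) (Fin 2) F) * st hF (Uc c) ∈ VV hF := by
    intro c H
    rw [mem_VV, st_mul, st_mul, st_st, (mem_VV hF).1 H.2]
    simp [Matrix.mul_assoc]
  have hcenter : ∀ (P : Matrix (Fin 4) (Fin 2) F) (hP : st hF P * P = 0) (H : Matrix (Fin 2) (Fin 2) F)
      (hH : st hF H = -H), P 0 0 = 1 → el hF P hP H hH ∈ Subgroup.center (SU 4 F q) →
      P * H * st hF P = 0 := by
    intro P hP H hH hP0 h
    obtain ⟨c, -, -, hc⟩ := Cfsg.Agent.ClassicalGeometry.PSUAutBasic.exists_scalar_of_mem_center hF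
      (by norm_num : 3 ≤ 4) h
    have hc' : ∀ v : Fin 4 → F, v + (P * H * st hF P) *ᵥ v = c • v := by
      intro v
      have h1 : (1 + P * H * st hF P) *ᵥ v = c • v := hc v
      rw [Matrix.add_mulVec, Matrix.one_mulVec] at h1
      exact h1
    have h1 := hc' (P *ᵥ ![1, 0])
    have h2 : (P * H * st hF P) *ᵥ (P *ᵥ ![1, 0]) = 0 := by
      rw [Matrix.mulVec_mulVec, Matrix.mul_assoc, hP, Matrix.mul_zero, Matrix.zero_mulVec]
    rw [h2, add_zero] at h1
    have h3 := congrFun h1 0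
    have h4 : (P *ᵥ ![1, 0]) 0 = 1 := by simp [Matrix.mulVec, dotProduct, Fin.sum_univ_two, hP0]
    rw [Pi.smul_apply, h4, smul_eq_mul, mul_one] at h3
    rw [← h3] at hc'
    have h5 : ∀ v : Fin 4 → F, (P * H * st hF P) *ᵥ v = 0 := by
      intro v
      have h6 := hc' v
      rw [one_smul] at h6
      exact add_eq_left.1 h6
    ext i j
    have h7 := congrFun (h5 (Pi.single j 1)) i
    rw [Matrix.mulVec_single_one] at h7
    exact h7
  have hK := card_KK hF
  have main := low_of_hom (p := p) (S' := SU 4 F q) (V := VV hF) (K := KK hF)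
    (QuotientGroup.mk' (Subgroup.center (SU 4 F q)))
    (fun v => by
      apply Subtype.ext
      show p • (v : Matrix (Fin 2) (Fin 2) F) = 0
      ext i j
      exact hp _)
    (fun k => Subtype.ext (hp _))
    (fun H => el hF (P1 ε) hP1 (H : Matrix (Fin 2) (Fin 2) F) H.2)
    (fun c => el hF (P2 ε κ η) hP2 (Jc q (c : F)) (st_Jc hF c))
    (fun v w => el_mul hF _ _ _ _ _ _ _)
    (fun c d => by
      have h1 := el_mul hF (P2 ε κ η) hP2 (Jc q (c : F)) (Jc q (d : F)) (st_Jc hF c) (st_Jc hF d)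
        (by rw [← Jc_add hF]; exact st_Jc hF _)
      rw [← h1]
      congr 1
      exact Jc_add hF _ _)
    ?_ ?_ (fun c H => ⟨Uc (c : F) * (H : Matrix (Fin 2) (Fin 2) F) * st hF (Uc (c : F)), hφ c H⟩)
    ?_ V0 v0 ?_ ?_
  · rwa [hK] at main
  · intro H hH
    rw [QuotientGroup.ker_mk'] at hH
    have h0 := hcenter _ _ _ _ (by simp [P1]) hH
    have e00 := congrFun (congrFun h0 0) 0
    have e02 := congrFun (congrFun h0 0) 2
    have e20 := congrFun (congrFun h0 2) 0
    have e22 := congrFun (congrFun h0 2) 2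
    simp [Matrix.mul_apply, Fin.sum_univ_two, P1, st_apply, hz, Matrix.vecMul, dotProduct] at e00 e02 e20 e22
    apply Subtype.ext
    ext i j
    fin_cases i <;> fin_cases j
    · exact e00
    · exact e02
    · exact e20
    · exact e22
  · intro k hk
    rw [QuotientGroup.ker_mk'] at hk
    have h0 := hcenter _ _ _ _ (by simp [P2]) hk
    have e02 := congrFun (congrFun h0 0) 2
    have hκ0 : κ ≠ 0 := by
      rintro rfl
      rw [zero_mul] at hκ
      exact zero_ne_one hκ
    have hκq : κ ^ q ≠ 0 := fun h => hκ0 ((pow_q_eq_zero hF).1 h)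
    simp [Matrix.mul_apply, Fin.sum_univ_two, P2, Jc, st_apply, hz, hκq, Matrix.vecMul, dotProduct] at e02
    exact e02
  · intro c H
    rw [mul_inv_eq_iff_eq_mul]
    apply Subtype.ext
    apply Subtype.ext
    exact conj_el hF (P1 ε) _ (st_el hF _ hP2 _ (st_Jc hF _)) (Uc (c : F)) (rel hF hε hκ _) _
  · intro h
    exact hμ0 h.1
  · intro c hc
    have hc0 : (c : F) ≠ 0 := fun h => hc (Subtype.ext h)
    have hcq : (c : F) ^ q = c := c.2
    have hst : st hF (Uc (c : F)) = !![1, 0; (c : F), 1] := by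
      ext i j
      fin_cases i <;> fin_cases j <;> simp [st_apply, Uc, hz, hcq]
    refine ⟨⟨!![0, 0; 0, μ / c], ?_⟩, ?_⟩
    · rw [mem_VV]
      ext i j
      fin_cases i <;> fin_cases j <;> simp [st_apply, hz, hμ', div_pow, hcq, neg_div]
    · refine ⟨?_, ?_⟩
      · show (Uc (c : F) * !![0, 0; 0, μ / c] * st hF (Uc (c : F)) - !![0, 0; 0, μ / (c : F)] - !![0, μ; μ, 0]) 0 1 = 0
        rw [hst]
        simp [Uc]
        field_simp
        ring
      · show (Uc (c : F) * !![0, 0; 0, μ / c] * st hF (Uc (c : F)) - !![0, 0; 0, μ / (c : F)] - !![0, μ; μ, 0]) 1 1 = 0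
        rw [hst]
        simp [Uc]

end four

end Cfsg.Agent.H765.HT
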