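import Cfsg.Agent.H40.HT.Low

/-!
# S4933, R6: a kit for `Low p S m` (helper765)

* `low_of` : `A` is the image of an elementary abelian `V`, `X` the image of `K`, `x_k a_v x_k⁻¹ = a_{φ k v}`,
  and for a fixed `v₀ ∉ V₀` every `k ≠ 0` has `v` with `φ k v - v - v₀ ∈ V₀`.
-/

set_option autoImplicit false

open Cfsg

namespace Cfsg.Agent.H765.HT

open Cfsg.Agent.H40.HT

universe u v w

theorem isPGroup_of_add {p : ℕ} {S : Type v} [Group S] {V : Type u} [AddCommGroup V] (hV : ∀ v : V, p • v = 0)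
    (f : Multiplicative V →* S) : IsPGroup p f.range := by
  rintro ⟨_, v, rfl⟩
  refine ⟨1, Subtype.ext ?_⟩
  show f v ^ p ^ 1 = 1
  rw [pow_one, ← map_pow]
  have : v ^ p = 1 := by
    have h1 := hV (Multiplicative.toAdd v)
    rw [← toAdd_pow] at h1
    exact Multiplicative.toAdd.injective (by rw [h1]; rfl)
  rw [this, map_one]

theorem low_of {p : ℕ} {S : Type v} [Group S] {V : Type u} {K : Type w} [AddCommGroup V] [AddCommGroup K]
    (hV : ∀ v : V, p • v = 0) (hK : ∀ k : K, p • k = 0) (a : V → S) (x : K → S)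
    (ha : ∀ v w, a (v + w) = a v * a w) (hx : ∀ k l, x (k + l) = x k * x l)
    (hai : ∀ v, a v = 1 → v = 0) (hxi : ∀ k, x k = 1 → k = 0)
    (φ : K → V → V) (h : ∀ k v, x k * a v * (x k)⁻¹ = a (φ k v)) (V0 : AddSubgroup V) (v0 : V) (h0 : v0 ∉ V0)
    (hs : ∀ k, k ≠ 0 → ∃ v, φ k v - v - v0 ∈ V0) : Low p S (Nat.card K) := by
  have ha0 : a 0 = 1 := by
    have h1 := ha 0 0
    rw [add_zero] at h1
    exact (mul_eq_left.1 h1.symm)
  have hx0 : x 0 = 1 := by
    have h1 := hx 0 0
    rw [add_zero] at h1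
    exact (mul_eq_left.1 h1.symm)
  let fa : Multiplicative V →* S :=
    { toFun := fun v => a (Multiplicative.toAdd v)
      map_one' := ha0
      map_mul' := fun v w => ha _ _ }
  let fx : Multiplicative K →* S :=
    { toFun := fun v => x (Multiplicative.toAdd v)
      map_one' := hx0
      map_mul' := fun v w => hx _ _ }
  have hfa : ∀ v : V, fa (Multiplicative.ofAdd v) = a v := fun _ => rfl
  have hfx : ∀ v : K, fx (Multiplicative.ofAdd v) = x v := fun _ => rfl
  have hinj : Function.Injective fa := by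
    rw [injective_iff_map_eq_one]
    intro v hv
    exact Multiplicative.toAdd.injective (hai _ hv)
  have hinjx : Function.Injective fx := by
    rw [injective_iff_map_eq_one]
    intro v hv
    exact Multiplicative.toAdd.injective (hxi _ hv)
  have hnorm : ∀ y ∈ fx.range, ∀ z ∈ fa.range, y * z * y⁻¹ ∈ fa.range := by
    rintro _ ⟨k, rfl⟩ _ ⟨v, rfl⟩
    exact ⟨Multiplicative.ofAdd (φ (Multiplicative.toAdd k) (Multiplicative.toAdd v)),
      (h (Multiplicative.toAdd k) (Multiplicative.toAdd v)).symm⟩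
  have hle : fx.range ≤ Subgroup.normalizer (fa.range : Set S) := by
    intro y hy
    rw [Subgroup.mem_normalizer_iff]
    intro z
    refine ⟨fun hz => hnorm y hy z hz, fun hz => ?_⟩
    have h8 := hnorm y⁻¹ (fx.range.inv_mem hy) _ hz
    simpa [mul_assoc] using h8
  refine ⟨fa.range, fx.range, (AddSubgroup.toSubgroup V0).map fa, ?_, hnorm, ?_, ?_, ?_, ?_⟩
  · rw [sup_comm]
    exact IsPGroup.to_sup_of_normal_right' (isPGroup_of_add hK fx) (isPGroup_of_add hV fa) hle
  · rintro _ ⟨v, rfl⟩ _ ⟨w, rfl⟩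
    rw [← map_mul, ← map_mul, mul_comm]
  · rintro _ ⟨v, -, rfl⟩
    exact ⟨v, rfl⟩
  · refine ⟨a v0, ⟨Multiplicative.ofAdd v0, rfl⟩, ?_, ?_⟩
    · rintro ⟨v, hv, hvv⟩
      have h1 : v = Multiplicative.ofAdd v0 := hinj hvv
      rw [h1] at hv
      exact h0 hv
    · rintro _ ⟨k, rfl⟩ hk
      have hk0 : Multiplicative.toAdd k ≠ 0 := by
        intro h1
        apply hk
        show x (Multiplicative.toAdd k) = 1
        rw [h1, hx0]
      obtain ⟨v, hv⟩ := hs _ hk0
      refine ⟨a v, ⟨Multiplicative.ofAdd v, rfl⟩, a (φ (Multiplicative.toAdd k) v - v - v0),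
        ⟨Multiplicative.ofAdd (φ (Multiplicative.toAdd k) v - v - v0), hv, rfl⟩, ?_⟩
      have e1 : fx k = x (Multiplicative.toAdd k) := rfl
      rw [e1, h, ← ha, mul_inv_eq_iff_eq_mul, ← ha]
      congr 1
      abel
  · exact (Nat.card_congr (MonoidHom.ofInjective hinjx).toEquiv).symm.trans (Nat.card_congr Multiplicative.toAdd)

/-- transport along a homomorphism which is injective on `p`-elements... of the two families only -/
theorem low_of_hom {p : ℕ} {S : Type v} [Group S] {S' : Type*} [Group S'] (f : S' →* S) {V : Type u} {K : Type w}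
    [AddCommGroup V] [AddCommGroup K]
    (hV : ∀ v : V, p • v = 0) (hK : ∀ k : K, p • k = 0) (a : V → S') (x : K → S')
    (ha : ∀ v w, a (v + w) = a v * a w) (hx : ∀ k l, x (k + l) = x k * x l)
    (hai : ∀ v, a v ∈ f.ker → v = 0) (hxi : ∀ k, x k ∈ f.ker → k = 0)
    (φ : K → V → V) (h : ∀ k v, x k * a v * (x k)⁻¹ = a (φ k v)) (V0 : AddSubgroup V) (v0 : V) (h0 : v0 ∉ V0)
    (hs : ∀ k, k ≠ 0 → ∃ v, φ k v - v - v0 ∈ V0) : Low p S (Nat.card K) :=
  low_of hV hK (fun v => f (a v)) (fun k => f (x k)) (fun v w => by rw [ha, map_mul]) (fun k l => by rw [hx, map_mul])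
    (fun v hv => hai v hv) (fun k hk => hxi k hk) φ (fun k v => by rw [← map_mul, ← map_inv, ← map_mul, h]) V0 v0 h0 hs

end Cfsg.Agent.H765.HT
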